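import Groth.Agent.QuotShLib.Basic
import Groth.Agent.Grpd.FlatComp
import Mathlib.AlgebraicGeometry.Morphisms.FlatDescent
import Mathlib.AlgebraicGeometry.Morphisms.LocalFlatDescent
import Mathlib.AlgebraicGeometry.Sites.Etale
import Mathlib.CategoryTheory.Sites.SubcanonicalOver

/-!
# Quotient sheaves for the fppf topology
-/

universe u

open CategoryTheory CategoryTheory.Limits AlgebraicGeometry Opposite

namespace Groth.Agent.QuotShLib

variable {S : Scheme.{u}} {R U M : Over S} {s t : R ⟶ U} {q : U ⟶ M}

lemma generate_singleton_mem_J {K : Precoverage Scheme.{u}}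
    (h : Presieve.singleton q.left ∈ K M.left) :
    Sieve.generate (Presieve.singleton q) ∈ QuotSh.J K S M := by
  rw [GrothendieckTopology.mem_over_iff]
  refine K.toGrothendieck.superset_covering ?_ (Precoverage.generate_mem_toGrothendieck h)
  rintro Z g ⟨W, a, _, ⟨⟩, rfl⟩
  rw [Sieve.overEquiv_iff]
  exact ⟨U, Over.homMk a (by simp), q, Presieve.singleton.mk, by ext; simp⟩

lemma isKernelPair_of_left (h : IsPullback s.left t.left q.left q.left) : IsKernelPair q s t := by
  have : IsPullback ((Over.forget S).map s) ((Over.forget S).map t) ((Over.forget S).map q)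
      ((Over.forget S).map q) := h
  exact IsPullback.of_map (Over.forget S) (by ext; exact h.w) this

lemma left_of_isKernelPair (h : IsKernelPair q s t) : IsPullback s.left t.left q.left q.left :=
  IsPullback.map (Over.forget S) h

/-- An fppf morphism is the quotient by its kernel pair. -/
theorem isQuotient_fppf [Flat q.left] [Surjective q.left] [LocallyOfFinitePresentation q.left]
    (h : IsKernelPair q s t) : QuotSh.IsQuotient Scheme.fppfPrecoverage s t q :=
  isQuotient_of_cover _ (generate_singleton_mem_J q.left.singleton_mem_fppfPrecoverage) h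

instance : (QuotSh.J Scheme.fppfPrecoverage S).Subcanonical :=
  GrothendieckTopology.subcanonical_over (J := Scheme.fppfTopology) S

lemma etalePrecoverage_le_fppf : Scheme.etalePrecoverage.{u} ≤ Scheme.fppfPrecoverage :=
  Scheme.precoverage_mono fun _ _ _ _ => ⟨inferInstance, inferInstance⟩

instance : (QuotSh.J Scheme.etalePrecoverage S).Subcanonical := by
  have : Scheme.etalePrecoverage.{u}.toGrothendieck.Subcanonical :=
    .of_le (Precoverage.toGrothendieck_mono etalePrecoverage_le_fppf :
      _ ≤ Scheme.fppfTopology)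
  exact GrothendieckTopology.subcanonical_over (J := Scheme.etalePrecoverage.toGrothendieck) S

instance : Scheme.fppfPrecoverage.{u}.HasIsos where
  mem_coverings_of_isIso f _ := f.singleton_mem_fppfPrecoverage

/-- A covering sieve generated by one morphism: the morphism is trivialised by a covering family. -/
lemma exists_lifts {K : Precoverage Scheme.{u}} [K.IsStableUnderComposition]
    [K.IsStableUnderBaseChange] [K.HasIsos]
    (h : Sieve.generate (Presieve.singleton q) ∈ QuotSh.J K S M) :
    ∃ P ∈ K M.left, ∀ ⦃Z : Scheme.{u}⦄ (g : Z ⟶ M.left), P g → ∃ l : Z ⟶ U.left, l ≫ q.left = g := by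
  rw [GrothendieckTopology.mem_over_iff] at h
  obtain ⟨P, hP, hle⟩ := Precoverage.mem_toGrothendieck_iff_of_isStableUnderComposition.1 h
  refine ⟨P, hP, fun Z g hg => ?_⟩
  have := hle _ _ hg
  rw [Sieve.overEquiv_iff] at this
  obtain ⟨W, a, _, ⟨⟩, hfac⟩ := this
  exact ⟨a.left, congrArg CommaMorphism.left hfac⟩

/-- A morphism with flat lfp kernel pair projection, having a section over a flat lfp cover,
is fppf. -/
theorem fppf_of_lift (hkp : IsKernelPair q s t) [Flat s.left] [Surjective s.left]
    [LocallyOfFinitePresentation s.left] {Z : Scheme.{u}} (g : Z ⟶ M.left) [Flat g] [Surjective g]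
    [LocallyOfFinitePresentation g] (l : Z ⟶ U.left) (hl : l ≫ q.left = g) :
    Flat q.left ∧ Surjective q.left ∧ LocallyOfFinitePresentation q.left := by
  have e := (IsPullback.of_hasPullback s.left l).paste_horiz (left_of_isKernelPair hkp).flip
  rw [hl] at e
  have hsnd : pullback.snd q.left g = e.isoPullback.inv ≫ pullback.snd s.left l :=
    e.isoPullback_inv_snd.symm
  have : Flat (pullback.snd q.left g) := by rw [hsnd]; infer_instance
  have : LocallyOfFinitePresentation (pullback.snd q.left g) := by rw [hsnd]; infer_instance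
  have : Flat (pullback.fst q.left g ≫ q.left) := by rw [pullback.condition]; infer_instance
  refine ⟨GrpdLib.flat_of_flat_comp (pullback.fst q.left g) q.left, ⟨fun x => ?_⟩,
    MorphismProperty.of_pullback_snd_of_descendsAlong
      (Q := @Surjective ⊓ @Flat ⊓ @LocallyOfFinitePresentation) (g := g)
      ⟨⟨inferInstance, inferInstance⟩, inferInstance⟩ ‹_›⟩
  obtain ⟨z, rfl⟩ := g.surjective x
  exact ⟨l z, by rw [← Scheme.Hom.comp_apply, hl]⟩

/-- Assemble a covering family with lifts into one cover with a lift. -/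
lemma exists_single_lift {W : MorphismProperty Scheme.{u}} [IsZariskiLocalAtSource W]
    {P : Presieve M.left} (hP : P ∈ Scheme.precoverage W M.left)
    (hl : ∀ ⦃Z : Scheme.{u}⦄ (g : Z ⟶ M.left), P g → ∃ l : Z ⟶ U.left, l ≫ q.left = g) :
    ∃ (Z : Scheme.{u}) (g : Z ⟶ M.left) (l : Z ⟶ U.left),
      W g ∧ Surjective g ∧ l ≫ q.left = g := by
  obtain ⟨hsurj, hprop⟩ := hP
  have hx : ∀ x : M.left, ∃ (Z : Scheme.{u}) (g : Z ⟶ M.left), P g ∧ x ∈ Set.range g := by
    intro x
    obtain ⟨Z, g, hg, hx⟩ := (Presieve.mem_comap_jointlySurjectivePrecoverage_iff Scheme.forget).1 hsurj x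
    exact ⟨Z, g, hg, hx⟩
  choose Z g hg hgx using hx
  choose l hl using fun x => hl (g x) (hg x)
  refine ⟨∐ Z, Sigma.desc g, Sigma.desc l, IsZariskiLocalAtSource.sigmaDesc fun x => hprop (hg x),
    ⟨fun x => ?_⟩, Sigma.hom_ext _ _ fun x => by simp [hl]⟩
  obtain ⟨z, hz⟩ := hgx x
  exact ⟨Sigma.ι Z x z, by rw [← Scheme.Hom.comp_apply, Sigma.ι_desc, hz]⟩

/-- fppf quotients by equivalence relations with fppf projections are fppf. -/
theorem fppf_of_isQuotient [IsEquivalenceRelation s t] [Flat s.left] [Surjective s.left]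
    [LocallyOfFinitePresentation s.left]
    (hq : QuotSh.IsQuotient Scheme.fppfPrecoverage s t q) :
    IsKernelPair q s t ∧ Flat q.left ∧ Surjective q.left ∧ LocallyOfFinitePresentation q.left := by
  have hkp := isKernelPair_of_isQuotient _ hq
  obtain ⟨P, hP, hl⟩ := exists_lifts (cover_of_isQuotient _ hq)
  obtain ⟨Z, g, l, ⟨h1, h2⟩, h3, h4⟩ :=
    exists_single_lift (W := @Flat ⊓ @LocallyOfFinitePresentation) hP hl
  exact ⟨hkp, fppf_of_lift hkp g l h4⟩

/-- fppf quotients by equivalence relations with fppf projections. -/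
theorem isQuotient_fppf_iff [IsEquivalenceRelation s t] [Flat s.left] [Surjective s.left]
    [LocallyOfFinitePresentation s.left] :
    (IsKernelPair q s t ∧ Flat q.left ∧ Surjective q.left ∧ LocallyOfFinitePresentation q.left) ↔
      QuotSh.IsQuotient Scheme.fppfPrecoverage s t q :=
  ⟨fun ⟨h, _, _, _⟩ => isQuotient_fppf h, fppf_of_isQuotient⟩

/-- étale quotients by equivalence relations with étale projections. -/
theorem isQuotient_etale_iff [IsEquivalenceRelation s t] [Etale s.left] [Surjective s.left] :
    (IsKernelPair q s t ∧ Etale q.left ∧ Surjective q.left) ↔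
      QuotSh.IsQuotient Scheme.etalePrecoverage s t q := by
  constructor
  · rintro ⟨h, he, hs⟩
    refine isQuotient_of_cover _ (generate_singleton_mem_J ?_) h
    exact (Scheme.singleton_mem_precoverage_iff @Etale q.left).2 ⟨hs.surj, he⟩
  · intro hq
    have hkp := isKernelPair_of_isQuotient _ hq
    have : Scheme.etalePrecoverage.{u}.HasIsos :=
      ⟨fun f _ => (Scheme.singleton_mem_precoverage_iff @Etale f).2 ⟨f.surjective, inferInstance⟩⟩
    have : Scheme.etalePrecoverage.{u}.IsStableUnderComposition :=
      inferInstanceAs (Scheme.precoverage @Etale).IsStableUnderComposition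
    have : Scheme.etalePrecoverage.{u}.IsStableUnderBaseChange :=
      inferInstanceAs (Scheme.precoverage @Etale).IsStableUnderBaseChange
    obtain ⟨P, hP, hl⟩ := exists_lifts (cover_of_isQuotient _ hq)
    obtain ⟨Z, g, l, h1, h3, h4⟩ := exists_single_lift (W := @Etale) hP hl
    have : Etale g := h1
    have : Surjective g := h3
    obtain ⟨-, hs, -⟩ := fppf_of_lift hkp g l h4
    refine ⟨hkp, ?_, hs⟩
    have e := (IsPullback.of_hasPullback s.left l).paste_horiz (left_of_isKernelPair hkp).flip
    rw [h4] at e
    have : Etale (pullback.snd q.left g) := by rw [← e.isoPullback_inv_snd]; infer_instance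
    exact MorphismProperty.of_pullback_snd_of_descendsAlong
      (Q := @Surjective ⊓ @Flat ⊓ @LocallyOfFinitePresentation) (g := g)
      ⟨⟨inferInstance, inferInstance⟩, inferInstance⟩ this

end Groth.Agent.QuotShLib

namespace Groth.Agent.QuotShLib

/-- fppf quotient maps are surjective. -/
theorem fppf_of_isQuotient_surjective {S : Scheme.{u}} {R U M : Over S} {s t : R ⟶ U} {q : U ⟶ M}
    (hq : QuotSh.IsQuotient Scheme.fppfPrecoverage s t q) : Surjective q.left := by
  obtain ⟨P, hP, hl⟩ := exists_lifts (cover_of_isQuotient _ hq)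
  obtain ⟨Z, g, l, -, h3, h4⟩ :=
    exists_single_lift (W := @Flat ⊓ @LocallyOfFinitePresentation) hP hl
  refine ⟨fun x => ?_⟩
  obtain ⟨z, rfl⟩ := h3.surj x
  exact ⟨l z, by rw [← Scheme.Hom.comp_apply, h4]⟩

end Groth.Agent.QuotShLib
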