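import Groth.Prelude.Def_QuotSh
import Mathlib.CategoryTheory.EquivalenceRelation
import Mathlib.CategoryTheory.Sites.LocallyBijective
import Mathlib.CategoryTheory.Sites.EpiMono
import Mathlib.CategoryTheory.Limits.Constructions.Over.Connected

/-!
# Quotient sheaves of schemes

`QuotSh.IsQuotient K s t q` holds when `q` is covering and `(s, t)` is its kernel pair, and
conversely when the topology is subcanonical and `(s, t)` is an equivalence relation.
-/

universe u

open CategoryTheory CategoryTheory.Limits AlgebraicGeometry Opposite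

namespace Groth.Agent.QuotShLib

variable (K : Precoverage Scheme.{u}) {S : Scheme.{u}}

/-- Morphisms out of a representable sheaf are sections. -/
noncomputable def secEquiv (V : Over S) (F : QuotSh.Sh K S) :
    (QuotSh.rep K V ⟶ F) ≃ F.obj.obj (op V) :=
  ((sheafificationAdjunction (QuotSh.J K S) (Type (u + 1))).homEquiv _ _).trans
    CategoryTheory.uliftYonedaEquiv

lemma secEquiv_apply {V : Over S} {F : QuotSh.Sh K S} (φ : QuotSh.rep K V ⟶ F) :
    secEquiv K V F φ = ((sheafificationAdjunction (QuotSh.J K S) (Type (u + 1))).homEquiv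
      (yoneda.obj V ⋙ uliftFunctor.{u + 1, u}) F φ).app (op V) ⟨𝟙 V⟩ :=
  rfl

lemma secEquiv_comp {V W : Over S} (g : V ⟶ W) {F : QuotSh.Sh K S} (φ : QuotSh.rep K W ⟶ F) :
    secEquiv K V F (QuotSh.repMap K g ≫ φ) = F.obj.map g.op (secEquiv K W F φ) := by
  rw [secEquiv_apply, secEquiv_apply, Adjunction.homEquiv_naturality_left]
  refine Eq.trans ?_ (NatTrans.naturality_apply ((sheafificationAdjunction (QuotSh.J K S)
    (Type (u + 1))).homEquiv (yoneda.obj W ⋙ uliftFunctor.{u + 1, u}) F φ) g.op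
      (⟨𝟙 W⟩ : ULift.{u + 1} (W ⟶ W)))
  change ((sheafificationAdjunction (QuotSh.J K S) (Type (u + 1))).homEquiv
      (yoneda.obj W ⋙ uliftFunctor.{u + 1, u}) F φ).app (op V) ⟨𝟙 V ≫ g⟩ =
    ((sheafificationAdjunction (QuotSh.J K S) (Type (u + 1))).homEquiv
      (yoneda.obj W ⋙ uliftFunctor.{u + 1, u}) F φ).app (op V) ⟨g ≫ 𝟙 W⟩
  rw [Category.id_comp, Category.comp_id]

variable {R U M : Over S} {s t : R ⟶ U} {q : U ⟶ M}

/-- Morphisms from `M` are invariant morphisms from `U` when `q` is a covering with kernel pair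
`(s, t)`. -/
lemma existsUnique_fac (hcov : Sieve.generate (Presieve.singleton q) ∈ QuotSh.J K S M)
    (hkp : IsKernelPair q s t) {F : QuotSh.Sh K S} (α : QuotSh.rep K U ⟶ F)
    (hα : QuotSh.repMap K s ≫ α = QuotSh.repMap K t ≫ α) :
    ∃! β, QuotSh.repMap K q ≫ β = α := by
  have hsh : Presieve.IsSheafFor F.obj (Presieve.singleton q) :=
    (Presieve.isSheafFor_iff_generate _).2
      (((isSheaf_iff_isSheaf_of_type _ _).1 F.property) _ hcov)
  rw [Presieve.isSheafFor_singleton] at hsh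
  obtain ⟨y, hy, huniq⟩ := hsh (secEquiv K U F α) fun {Z} p₁ p₂ h => by
    have h1 := congrArg (secEquiv K R F) hα
    rw [secEquiv_comp, secEquiv_comp] at h1
    have h2 := congrArg (fun x => F.obj.map (hkp.lift p₁ p₂ h).op x) h1
    simp only [← Functor.map_comp_apply, ← op_comp] at h2
    rwa [IsKernelPair.lift_fst, IsKernelPair.lift_snd] at h2
  refine ⟨(secEquiv K M F).symm y, (secEquiv K U F).injective ?_, fun β hβ => ?_⟩
  · change secEquiv K U F (QuotSh.repMap K q ≫ (secEquiv K M F).symm y) = _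
    rw [secEquiv_comp, Equiv.apply_symm_apply, hy]
  · rw [Equiv.eq_symm_apply]
    exact huniq _ ((secEquiv_comp K q β).symm.trans (congrArg (secEquiv K U F) hβ))

/-- A covering morphism is the quotient by its kernel pair. -/
theorem isQuotient_of_cover (hcov : Sieve.generate (Presieve.singleton q) ∈ QuotSh.J K S M)
    (hkp : IsKernelPair q s t) : QuotSh.IsQuotient K s t q := by
  refine ⟨hkp.w, ?_⟩
  obtain ⟨β, hβ, -⟩ := existsUnique_fac K hcov hkp (QuotSh.quotπ K s t) (QuotSh.quot_condition K s t)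
  have hdesc : QuotSh.quotπ K s t ≫ QuotSh.quotDesc K q hkp.w = QuotSh.repMap K q :=
    coequalizer.π_desc _ _
  refine ⟨β, coequalizer.hom_ext ?_, ?_⟩
  · change QuotSh.quotπ K s t ≫ _ ≫ β = QuotSh.quotπ K s t ≫ 𝟙 _
    rw [reassoc_of% hdesc, hβ, Category.comp_id]
  · refine (existsUnique_fac K hcov hkp (QuotSh.repMap K q) ?_).unique ?_ (Category.comp_id _)
    · rw [← Functor.map_comp, ← Functor.map_comp, ← Functor.whiskerRight_comp,
        ← Functor.whiskerRight_comp, ← yoneda.map_comp, ← yoneda.map_comp, hkp.w]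
    · rw [reassoc_of% hβ, hdesc]

variable (hq : QuotSh.IsQuotient K s t q)

include hq in
lemma epi_repMap : Epi (QuotSh.repMap K q) := by
  obtain ⟨w, hw⟩ := hq
  have hdesc : QuotSh.quotπ K s t ≫ QuotSh.quotDesc K q w = QuotSh.repMap K q :=
    coequalizer.π_desc _ _
  rw [← hdesc]
  have : Epi (QuotSh.quotπ K s t) := inferInstanceAs (Epi (coequalizer.π _ _))
  infer_instance

include hq in
/-- The quotient map is covering. -/
theorem cover_of_isQuotient : Sieve.generate (Presieve.singleton q) ∈ QuotSh.J K S M := by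
  have := epi_repMap K hq
  let J := QuotSh.J K S
  let PU := yoneda.obj U ⋙ uliftFunctor.{u + 1, u}
  let PM := yoneda.obj M ⋙ uliftFunctor.{u + 1, u}
  let g : PU ⟶ PM := Functor.whiskerRight (yoneda.map q) uliftFunctor.{u + 1, u}
  have h1 : Sheaf.IsLocallySurjective (QuotSh.repMap K q) :=
    (Sheaf.isLocallySurjective_iff_epi _).2 inferInstance
  have h2 : Presheaf.IsLocallySurjective J (QuotSh.repMap K q).hom := h1
  have h3 : g ≫ toSheafify J PM = toSheafify J PU ≫ (QuotSh.repMap K q).hom :=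
    (toSheafify_naturality J g)
  have h4 : Presheaf.IsLocallySurjective J (g ≫ toSheafify J PM) := by
    rw [h3]; infer_instance
  have h5 : Presheaf.IsLocallySurjective J g :=
    Presheaf.isLocallySurjective_of_isLocallySurjective_of_isLocallyInjective J g (toSheafify J PM)
  refine J.superset_covering ?_ (Presheaf.imageSieve_mem J g (U := op M) ⟨𝟙 M⟩)
  rintro Z k ⟨⟨a⟩, ha⟩
  have ha' : a ≫ q = k ≫ 𝟙 M := congrArg ULift.down ha
  exact ⟨U, a, q, Presieve.singleton.mk, by rw [ha', Category.comp_id]⟩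

/-- The relation on points induced by `(s, t)`. -/
def Rel (s t : R ⟶ U) (T : Over S) (a b : T ⟶ U) : Prop := ∃ r : T ⟶ R, r ≫ s = a ∧ r ≫ t = b

lemma rel_equivalence [IsEquivalenceRelation s t] (T : Over S) : Equivalence (Rel s t T) := by
  obtain ⟨⟨e⟩⟩ := ‹IsEquivalenceRelation s t›
  refine ⟨fun a => ⟨a ≫ e.r, by simp, by simp⟩, ?_, ?_⟩
  · rintro a b ⟨r, rfl, rfl⟩
    exact ⟨r ≫ e.s, by rw [Category.assoc, e.symmetry₁], by rw [Category.assoc, e.symmetry₂]⟩
  · rintro a b c ⟨r₁, rfl, hb⟩ ⟨r₂, hb', rfl⟩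
    obtain ⟨l, hl₁, hl₂⟩ := PullbackCone.IsLimit.lift' e.isLimit r₁ r₂ (hb.trans hb'.symm)
    refine ⟨l ≫ e.t, ?_, ?_⟩
    · rw [Category.assoc, e.transitivity₁, reassoc_of% hl₁]
    · rw [Category.assoc, e.transitivity₂, reassoc_of% hl₂]

/-- The quotient presheaf. -/
noncomputable def preQuot (s t : R ⟶ U) : (Over S)ᵒᵖ ⥤ Type (u + 1) where
  obj T := ULift.{u + 1} (Quot (Rel s t T.unop))
  map {T T'} f := ↾fun x => ⟨Quot.map (fun a => f.unop ≫ a)
    (fun a b ⟨r, h₁, h₂⟩ => ⟨f.unop ≫ r, by rw [Category.assoc, h₁], by rw [Category.assoc, h₂]⟩)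
    x.down⟩
  map_id T := by
    ext ⟨x⟩
    induction x using Quot.ind
    simp [Quot.map]
  map_comp f g := by
    ext ⟨x⟩
    induction x using Quot.ind
    simp [Quot.map]

/-- The projection to the quotient presheaf. -/
noncomputable def preProj (s t : R ⟶ U) : yoneda.obj U ⋙ uliftFunctor.{u + 1, u} ⟶ preQuot s t where
  app T := ↾fun a => ⟨Quot.mk _ a.down⟩
  naturality _ _ _ := rfl

include hq in
/-- A quotient by an equivalence relation has that relation as kernel pair. -/
theorem isKernelPair_of_isQuotient [(QuotSh.J K S).Subcanonical] [IsEquivalenceRelation s t] :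
    IsKernelPair q s t := by
  classical
  obtain ⟨w, hw⟩ := hq
  let J := QuotSh.J K S
  let F : QuotSh.Sh K S := (presheafToSheaf J (Type (u + 1))).obj (preQuot s t)
  let η := preProj s t ≫ toSheafify J (preQuot s t)
  let γ : QuotSh.rep K U ⟶ F := ((sheafificationAdjunction J (Type (u + 1))).homEquiv _ F).symm η
  have hγ : ∀ {T : Over S} (a : T ⟶ U),
      F.obj.map a.op (secEquiv K U F γ) = (toSheafify J (preQuot s t)).app (op T) ⟨Quot.mk _ a⟩ := by
    intro T a
    rw [secEquiv_apply, show ((sheafificationAdjunction (QuotSh.J K S) (Type (u + 1))).homEquiv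
      (yoneda.obj U ⋙ uliftFunctor.{u + 1, u}) F) γ = η from Equiv.apply_symm_apply _ η]
    have h := NatTrans.naturality_apply η a.op (⟨𝟙 U⟩ : ULift.{u + 1} (U ⟶ U))
    refine h.symm.trans ?_
    change η.app (op T) ⟨a ≫ 𝟙 U⟩ = _
    rw [Category.comp_id]
    rfl
  have hγw : QuotSh.repMap K s ≫ γ = QuotSh.repMap K t ≫ γ := by
    apply (secEquiv K R F).injective
    rw [secEquiv_comp, secEquiv_comp, hγ, hγ]
    exact congrArg _ (congrArg ULift.up (Quot.sound ⟨𝟙 R, Category.id_comp _, Category.id_comp _⟩))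
  let φ : QuotSh.rep K M ⟶ F := inv (QuotSh.quotDesc K q w) ≫ coequalizer.desc γ hγw
  have hφ : QuotSh.repMap K q ≫ φ = γ := by
    have hdesc : QuotSh.quotπ K s t ≫ QuotSh.quotDesc K q w = QuotSh.repMap K q :=
      coequalizer.π_desc _ _
    rw [← hdesc, Category.assoc, IsIso.hom_inv_id_assoc]
    exact coequalizer.π_desc _ _
  obtain ⟨⟨e⟩⟩ := ‹IsEquivalenceRelation s t›
  have huniq : ∀ {T : Over S} (r r' : T ⟶ R), r ≫ s = r' ≫ s → r ≫ t = r' ≫ t → r = r' :=
    fun r r' h₁ h₂ => e.right_cancellation r r' h₁ h₂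
  have hsheaf : ∀ (V : Over S), Presieve.IsSheaf J (yoneda.obj V) := fun V =>
    GrothendieckTopology.Subcanonical.isSheaf_of_isRepresentable _
  have key : ∀ {T : Over S} (a b : T ⟶ U), a ≫ q = b ≫ q → ∃ r, r ≫ s = a ∧ r ≫ t = b := by
    intro T a b hab
    have heq : (toSheafify J (preQuot s t)).app (op T) ⟨Quot.mk _ a⟩ =
        (toSheafify J (preQuot s t)).app (op T) ⟨Quot.mk _ b⟩ := by
      rw [← hγ, ← hγ, ← hφ, ← secEquiv_comp, ← secEquiv_comp]
      congr 1
      simp only [← Category.assoc]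
      congr 1
      rw [← Functor.map_comp, ← Functor.map_comp, ← Functor.whiskerRight_comp,
        ← Functor.whiskerRight_comp, ← yoneda.map_comp, ← yoneda.map_comp, hab]
    have hS := Presheaf.equalizerSieve_mem J (toSheafify J (preQuot s t)) _ _ heq
    let Sv := Presheaf.equalizerSieve (F := preQuot s t) (X := op T) ⟨Quot.mk _ a⟩ ⟨Quot.mk _ b⟩
    have hex : ∀ ⦃Z : Over S⦄ (g : Z ⟶ T), Sv g → ∃ r : Z ⟶ R, r ≫ s = g ≫ a ∧ r ≫ t = g ≫ b := by
      intro Z g hg
      have h1 : Quot.mk (Rel s t Z) (g ≫ a) = Quot.mk (Rel s t Z) (g ≫ b) := congrArg ULift.down hg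
      rw [Quot.eq, (rel_equivalence (s := s) (t := t) Z).eqvGen_iff] at h1
      exact h1
    choose r hr₁ hr₂ using hex
    let x : Presieve.FamilyOfElements (yoneda.obj R) Sv.arrows := fun Z g hg => r g hg
    have hx : x.Compatible := fun Z₁ Z₂ Z g₁ g₂ f₁ f₂ h₁ h₂ h => by
      change g₁ ≫ r f₁ h₁ = g₂ ≫ r f₂ h₂
      refine huniq _ _ ?_ ?_
      · rw [Category.assoc, Category.assoc, hr₁, hr₁, reassoc_of% h]
      · rw [Category.assoc, Category.assoc, hr₂, hr₂, reassoc_of% h]
    obtain ⟨ρ, hρ, -⟩ := hsheaf R Sv hS x hx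
    refine ⟨ρ, ?_, ?_⟩
    · refine (hsheaf U Sv hS).isSeparatedFor.ext fun Z g hg => ?_
      change g ≫ ρ ≫ s = g ≫ a
      rw [← Category.assoc, show g ≫ ρ = r g hg from hρ g hg, hr₁]
    · refine (hsheaf U Sv hS).isSeparatedFor.ext fun Z g hg => ?_
      change g ≫ ρ ≫ t = g ≫ b
      rw [← Category.assoc, show g ≫ ρ = r g hg from hρ g hg, hr₂]
  refine ⟨⟨w⟩, ⟨PullbackCone.IsLimit.mk _
    (fun c => (key c.fst c.snd c.condition).choose)
    (fun c => (key c.fst c.snd c.condition).choose_spec.1)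
    (fun c => (key c.fst c.snd c.condition).choose_spec.2)
    fun c m h₁ h₂ => huniq _ _ (h₁.trans (key c.fst c.snd c.condition).choose_spec.1.symm)
      (h₂.trans (key c.fst c.snd c.condition).choose_spec.2.symm)⟩⟩

end Groth.Agent.QuotShLib
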