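import Groth.Agent.QuotShLib.Fppf

/-! # Local description of the relation of a quotient sheaf -/

universe u

open CategoryTheory CategoryTheory.Limits AlgebraicGeometry Opposite

namespace Groth.Agent.QuotShLib

variable (K : Precoverage Scheme.{u}) {S : Scheme.{u}} {R U M : Over S} {s t : R ⟶ U} {q : U ⟶ M}

/-- Points with the same image in a quotient are locally equivalent. -/
theorem eqvGen_sieve_of_isQuotient (hq : QuotSh.IsQuotient K s t q) {T : Over S} (a b : T ⟶ U)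
    (hab : a ≫ q = b ≫ q) :
    ∃ Sv ∈ QuotSh.J K S T, ∀ ⦃Z : Over S⦄ (g : Z ⟶ T), Sv g →
      Relation.EqvGen (Rel s t Z) (g ≫ a) (g ≫ b) := by
  obtain ⟨w, hw⟩ := hq
  let J := QuotSh.J K S
  let F : QuotSh.Sh K S := (presheafToSheaf J (Type (u + 1))).obj (preQuot s t)
  let η := preProj s t ≫ toSheafify J (preQuot s t)
  let γ : QuotSh.rep K U ⟶ F := ((sheafificationAdjunction J (Type (u + 1))).homEquiv _ F).symm η
  have hγ : ∀ {T : Over S} (a : T ⟶ U),
      F.obj.map a.op (secEquiv K U F γ) = (toSheafify J (preQuot s t)).app (op T) ⟨Quot.mk _ a⟩ := by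
    intro T a
    rw [secEquiv_apply, show ((sheafificationAdjunction (QuotSh.J K S) (Type (u + 1))).homEquiv
      (yoneda.obj U ⋙ uliftFunctor.{u + 1, u}) F) γ = η from Equiv.apply_symm_apply _ η]
    have h := NatTrans.naturality_apply η a.op (⟨𝟙 U⟩ : ULift.{u + 1} (U ⟶ U))
    refine h.symm.trans ?_
    change η.app (op T) ⟨a ≫ 𝟙 U⟩ = _
    rw [Category.comp_id]
    rfl
  have hγw : QuotSh.repMap K s ≫ γ = QuotSh.repMap K t ≫ γ := by
    apply (secEquiv K R F).injective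
    rw [secEquiv_comp, secEquiv_comp, hγ, hγ]
    exact congrArg _ (congrArg ULift.up (Quot.sound ⟨𝟙 R, Category.id_comp _, Category.id_comp _⟩))
  let φ : QuotSh.rep K M ⟶ F := inv (QuotSh.quotDesc K q w) ≫ coequalizer.desc γ hγw
  have hφ : QuotSh.repMap K q ≫ φ = γ := by
    have hdesc : QuotSh.quotπ K s t ≫ QuotSh.quotDesc K q w = QuotSh.repMap K q :=
      coequalizer.π_desc _ _
    rw [← hdesc, Category.assoc, IsIso.hom_inv_id_assoc]
    exact coequalizer.π_desc _ _
  have heq : (toSheafify J (preQuot s t)).app (op T) ⟨Quot.mk _ a⟩ =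
      (toSheafify J (preQuot s t)).app (op T) ⟨Quot.mk _ b⟩ := by
    rw [← hγ, ← hγ, ← hφ, ← secEquiv_comp, ← secEquiv_comp]
    congr 1
    simp only [← Category.assoc]
    congr 1
    rw [← Functor.map_comp, ← Functor.map_comp, ← Functor.whiskerRight_comp,
      ← Functor.whiskerRight_comp, ← yoneda.map_comp, ← yoneda.map_comp, hab]
  refine ⟨_, Presheaf.equalizerSieve_mem J (toSheafify J (preQuot s t)) _ _ heq, fun Z g hg => ?_⟩
  have h1 : Quot.mk (Rel s t Z) (g ≫ a) = Quot.mk (Rel s t Z) (g ≫ b) := congrArg ULift.down hg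
  exact Quot.eq.1 h1

/-- fppf version: one cover on which two points with the same image are related, when the relation
is an equivalence on points. -/
theorem exists_cover_rel (hq : QuotSh.IsQuotient Scheme.fppfPrecoverage s t q)
    (he : ∀ Z : Over S, Equivalence (Rel s t Z)) {T : Over S} (a b : T ⟶ U)
    (hab : a ≫ q = b ≫ q) :
    ∃ (Z : Scheme.{u}) (g : Z ⟶ T.left) (r : Z ⟶ R.left), Flat g ∧ LocallyOfFinitePresentation g ∧
      Surjective g ∧ r ≫ s.left = g ≫ a.left ∧ r ≫ t.left = g ≫ b.left := by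
  obtain ⟨Sv, hSv, hrel⟩ := eqvGen_sieve_of_isQuotient _ hq a b hab
  rw [GrothendieckTopology.mem_over_iff] at hSv
  obtain ⟨P, ⟨hsurj, hprop⟩, hle⟩ :=
    Precoverage.mem_toGrothendieck_iff_of_isStableUnderComposition.1 hSv
  have hex : ∀ ⦃Z : Scheme.{u}⦄ (g : Z ⟶ T.left), P g →
      ∃ r : Z ⟶ R.left, r ≫ s.left = g ≫ a.left ∧ r ≫ t.left = g ≫ b.left := by
    intro Z g hg
    have h := hle _ _ hg
    rw [Sieve.overEquiv_iff] at h
    obtain ⟨r, h1, h2⟩ := ((he _).eqvGen_iff).1 (hrel _ h)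
    exact ⟨r.left, congrArg CommaMorphism.left h1, congrArg CommaMorphism.left h2⟩
  choose Z g hg hgx using fun x : T.left =>
    (show ∃ (Z : Scheme.{u}) (g : Z ⟶ T.left), P g ∧ x ∈ Set.range g by
      obtain ⟨Z, g, hg, hx⟩ :=
        (Presieve.mem_comap_jointlySurjectivePrecoverage_iff Scheme.forget).1 hsurj x
      exact ⟨Z, g, hg, hx⟩)
  choose r hr₁ hr₂ using fun x => hex (g x) (hg x)
  refine ⟨∐ Z, Sigma.desc g, Sigma.desc r,
    IsZariskiLocalAtSource.sigmaDesc fun x => (hprop (hg x)).1,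
    IsZariskiLocalAtSource.sigmaDesc fun x => (hprop (hg x)).2, ⟨fun x => ?_⟩,
    Sigma.hom_ext _ _ fun x => by simp [hr₁], Sigma.hom_ext _ _ fun x => by simp [hr₂]⟩
  obtain ⟨z, hz⟩ := hgx x
  exact ⟨Sigma.ι Z x z, by rw [← Scheme.Hom.comp_apply, Sigma.ι_desc, hz]⟩

/-- An fppf quotient map has a section over one fppf cover. -/
theorem exists_cover_lift (hq : QuotSh.IsQuotient Scheme.fppfPrecoverage s t q) :
    ∃ (Z : Scheme.{u}) (g : Z ⟶ M.left) (l : Z ⟶ U.left),
      Flat g ∧ LocallyOfFinitePresentation g ∧ Surjective g ∧ l ≫ q.left = g := by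
  obtain ⟨P, hP, hl⟩ := exists_lifts (cover_of_isQuotient _ hq)
  obtain ⟨Z, g, l, ⟨h1, h2⟩, h3, h4⟩ :=
    exists_single_lift (W := @Flat ⊓ @LocallyOfFinitePresentation) hP hl
  exact ⟨Z, g, l, h1, h2, h3, h4⟩

end Groth.Agent.QuotShLib
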